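import Groth.Agent.FerrandPush.BaseChange
import Groth.Agent.S6382
import Groth.Agent.PullbackMod.Flat
/-!
Flatness of cokernels over smaller opens.
-/

set_option autoImplicit false
set_option backward.isDefEq.respectTransparency false
set_option linter.style.haveILetI false
universe u

open CategoryTheory CategoryTheory.Limits AlgebraicGeometry TensorProduct

set_option maxHeartbeats 1000000

namespace Groth.Agent.PinchBC

theorem flat_coker_alg {R B₀ A₀ B A : Type u} [CommRing R] [CommRing B₀] [CommRing A₀] [CommRing B] [CommRing A]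
    [Algebra R B₀] [Algebra R A₀] [Algebra R B] [Algebra R A] [Algebra B₀ A₀] [Algebra B₀ B] [Algebra B₀ A]
    [Algebra A₀ A] [Algebra B A] [IsScalarTower R B₀ A₀] [IsScalarTower R B₀ B] [IsScalarTower R B₀ A]
    [IsScalarTower B₀ A₀ A] [IsScalarTower B₀ B A] [Algebra.IsPushout B₀ B A₀ A] [Module.Flat B₀ B]
    [Module.Flat R (A₀ ⧸ Submodule.span R (Set.range (algebraMap B₀ A₀)))] :
    Module.Flat R (A ⧸ Submodule.span R (Set.range (algebraMap B A))) := by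
  let N : Submodule B₀ A₀ := LinearMap.range (Algebra.linearMap B₀ A₀)
  have hN : Submodule.span R (Set.range (algebraMap B₀ A₀)) = N.restrictScalars R :=
    (congrArg (Submodule.span R) (show Set.range (algebraMap B₀ A₀) = (N.restrictScalars R : Set A₀) from rfl)).trans
      (Submodule.span_eq _)
  haveI : Module.Flat R (A₀ ⧸ N) :=
    Module.Flat.of_linearEquiv ((Submodule.quotEquivOfEq _ _ hN).trans
      (Submodule.Quotient.restrictScalarsEquiv R N)).symm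
  haveI : Module.Flat R (B ⊗[B₀] (A₀ ⧸ N)) := S6382.flat_tensor
  have hex : Function.Exact (Algebra.linearMap B₀ A₀) N.mkQ :=
    LinearMap.exact_iff.mpr (by rw [Submodule.ker_mkQ])
  let e1 := lTensor.equiv B hex N.mkQ_surjective
  let K : Submodule B₀ (B ⊗[B₀] A₀) := LinearMap.range ((Algebra.linearMap B₀ A₀).lTensor B)
  haveI : Module.Flat R ((B ⊗[B₀] A₀) ⧸ K) := Module.Flat.of_linearEquiv (e1.restrictScalars R)
  haveI : IsScalarTower R B A := IsScalarTower.to₁₃₄ R B₀ B A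
  let e : (B ⊗[B₀] A₀) ≃ₗ[R] A := (Algebra.IsPushout.equiv B₀ B A₀ A).toLinearEquiv.restrictScalars R
  have he : (K.restrictScalars R).map e.toLinearMap = Submodule.span R (Set.range (algebraMap B A)) := by
    have hset : ∀ x : B, e ((Algebra.linearMap B₀ A₀).lTensor B (x ⊗ₜ[B₀] (1 : B₀))) = algebraMap B A x := by
      intro x
      show Algebra.IsPushout.equiv B₀ B A₀ A (x ⊗ₜ algebraMap B₀ A₀ 1) = _
      rw [map_one, Algebra.IsPushout.equiv_tmul, map_one, mul_one]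
    refine le_antisymm ?_ (Submodule.span_le.mpr ?_)
    · rintro _ ⟨_, ⟨w, rfl⟩, rfl⟩
      obtain ⟨x, rfl⟩ : ∃ x, x ⊗ₜ[B₀] (1 : B₀) = w := ⟨TensorProduct.rid B₀ B w, by
        rw [← TensorProduct.rid_symm_apply, LinearEquiv.symm_apply_apply]⟩
      rw [LinearEquiv.coe_coe, hset]
      exact Submodule.subset_span ⟨x, rfl⟩
    · rintro _ ⟨x, rfl⟩
      exact ⟨_, ⟨x ⊗ₜ[B₀] (1 : B₀), rfl⟩, hset x⟩
  exact Module.Flat.of_linearEquiv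
    (((Submodule.Quotient.restrictScalarsEquiv R K).symm.trans (Submodule.Quotient.equiv _ _ e he))).symm

variable {Y T Z : Scheme.{u}} (ξ : Z ⟶ T) (t : T ⟶ Y) [IsAffineHom t] [IsAffineHom ξ]

theorem flat_coker {U : Y.Opens} (hU : IsAffineOpen U) {V : T.Opens} (hV : IsAffineOpen V) (hle : V ≤ t ⁻¹ᵁ U)
    {W : Z.Opens} (hW : W = ξ ⁻¹ᵁ V) (hleW : W ≤ (ξ ≫ t) ⁻¹ᵁ U)
    (h : letI := ((ξ ≫ t).app U).hom.toAlgebra
      letI c : Γ(T, t ⁻¹ᵁ U) →+* Γ(Z, (ξ ≫ t) ⁻¹ᵁ U) := (ξ.app (t ⁻¹ᵁ U)).hom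
      Module.Flat Γ(Y, U) (Γ(Z, (ξ ≫ t) ⁻¹ᵁ U) ⧸ Submodule.span Γ(Y, U) (Set.range c))) :
    letI := ((ξ ≫ t).appLE U W hleW).hom.toAlgebra
    Module.Flat Γ(Y, U) (Γ(Z, W) ⧸ Submodule.span Γ(Y, U) (Set.range (ξ.appLE V W hW.le).hom)) := by
  let V₀ := t ⁻¹ᵁ U
  let W₀ : Z.Opens := ξ ⁻¹ᵁ V₀
  have hV₀ : IsAffineOpen V₀ := hU.preimage t
  have hW₀ : IsAffineOpen W₀ := hV₀.preimage ξ
  have hWW : W ≤ W₀ := hW ▸ ξ.preimage_mono hle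
  have hc : IsPullback (𝟙 Z) ξ ξ (𝟙 T) := IsPullback.of_horiz_isIso ⟨by simp⟩
  have hUY : W = (𝟙 Z : Z ⟶ Z) ⁻¹ᵁ W₀ ⊓ ξ ⁻¹ᵁ V := (inf_eq_right.mpr (hW ▸ hWW : ξ ⁻¹ᵁ V ≤ W₀)).symm ▸ hW
  haveI := isIso_pushoutSection_of_isAffineOpen hc (show V ≤ (𝟙 T : T ⟶ T) ⁻¹ᵁ V₀ from hle)
    (show W₀ ≤ ξ ⁻¹ᵁ V₀ from le_rfl) hUY hV₀ hV hW₀
  have hp := (isIso_pushoutSection_iff hc _ _ hUY).mp this
  let φ : Γ(Y, U) ⟶ Γ(T, V₀) := t.app U
  letI : Algebra Γ(T, V₀) Γ(Z, W₀) := (ξ.app V₀).hom.toAlgebra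
  letI : Algebra Γ(T, V₀) Γ(T, V) := ((𝟙 T : T ⟶ T).appLE V₀ V hle).hom.toAlgebra
  letI : Algebra Γ(Z, W₀) Γ(Z, W) := ((𝟙 Z : Z ⟶ Z).appLE W₀ W hWW).hom.toAlgebra
  letI : Algebra Γ(T, V) Γ(Z, W) := (ξ.appLE V W hW.le).hom.toAlgebra
  letI : Algebra Γ(T, V₀) Γ(Z, W) := (((𝟙 Z : Z ⟶ Z).appLE W₀ W hWW).hom.comp (ξ.app V₀).hom).toAlgebra
  letI : Algebra Γ(Y, U) Γ(T, V₀) := φ.hom.toAlgebra
  letI : Algebra Γ(Y, U) Γ(Z, W₀) := ((ξ ≫ t).app U).hom.toAlgebra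
  letI : Algebra Γ(Y, U) Γ(T, V) := (((𝟙 T : T ⟶ T).appLE V₀ V hle).hom.comp φ.hom).toAlgebra
  letI : Algebra Γ(Y, U) Γ(Z, W) := ((ξ ≫ t).appLE U W hleW).hom.toAlgebra
  haveI : IsScalarTower Γ(Y, U) Γ(T, V₀) Γ(Z, W₀) := .of_algebraMap_eq' (by
    show ((ξ ≫ t).app U).hom = (t.app U ≫ ξ.app V₀).hom
    rw [Scheme.Hom.comp_app])
  haveI : IsScalarTower Γ(Y, U) Γ(T, V₀) Γ(T, V) := .of_algebraMap_eq' rfl
  haveI : IsScalarTower Γ(Y, U) Γ(T, V₀) Γ(Z, W) := .of_algebraMap_eq' (by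
    show ((ξ ≫ t).appLE U W hleW).hom = (t.app U ≫ ξ.app V₀ ≫ (𝟙 Z : Z ⟶ Z).appLE W₀ W hWW).hom
    simp [Scheme.Hom.appLE, Scheme.Hom.comp_app]; rfl)
  haveI : IsScalarTower Γ(T, V₀) Γ(Z, W₀) Γ(Z, W) := .of_algebraMap_eq' rfl
  haveI : IsScalarTower Γ(T, V₀) Γ(T, V) Γ(Z, W) := .of_algebraMap_eq' (by
    show (ξ.app V₀ ≫ (𝟙 Z : Z ⟶ Z).appLE W₀ W hWW).hom =
      ((𝟙 T : T ⟶ T).appLE V₀ V hle ≫ ξ.appLE V W hW.le).hom
    rw [Scheme.Hom.app_eq_appLE, Scheme.Hom.appLE_comp_appLE, Scheme.Hom.appLE_comp_appLE]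
    simp)
  haveI : Algebra.IsPushout Γ(T, V₀) Γ(T, V) Γ(Z, W₀) Γ(Z, W) := by
    refine CommRingCat.isPushout_iff_isPushout.mp ?_
    have h2 := hp.flip
    simp only [RingHom.algebraMap_toAlgebra, CommRingCat.ofHom_hom, Scheme.Hom.app_eq_appLE]
    exact h2
  haveI : Module.Flat Γ(T, V₀) Γ(T, V) := Flat.flat_appLE (𝟙 T) hV₀ hV hle
  haveI : Module.Flat Γ(Y, U) (Γ(Z, W₀) ⧸ Submodule.span Γ(Y, U) (Set.range (algebraMap Γ(T, V₀) Γ(Z, W₀)))) := h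
  exact flat_coker_alg (B₀ := Γ(T, V₀)) (A₀ := Γ(Z, W₀)) (B := Γ(T, V)) (A := Γ(Z, W))

theorem injective_appLE [Flat ξ] [Surjective ξ] {V : T.Opens} (hV : IsAffineOpen V)
    {W : Z.Opens} (hW : W = ξ ⁻¹ᵁ V) : Function.Injective (ξ.appLE V W hW.le).hom := by
  have hWa : IsAffineOpen W := hW ▸ hV.preimage ξ
  letI := (ξ.appLE V W hW.le).hom.toAlgebra
  haveI : Module.Flat Γ(T, V) Γ(Z, W) := Flat.flat_appLE ξ hV hWa hW.le
  haveI : Module.FaithfullyFlat Γ(T, V) Γ(Z, W) := Module.FaithfullyFlat.of_comap_surjective fun p => by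
    have hpV : hV.fromSpec p ∈ V := by
      rw [← SetLike.mem_coe, ← hV.range_fromSpec]
      exact ⟨p, rfl⟩
    obtain ⟨z, hz⟩ := ξ.surjective (hV.fromSpec p)
    have hzW : z ∈ W := by
      rw [hW]
      show ξ z ∈ V
      rw [hz]; exact hpV
    refine ⟨hWa.primeIdealOf ⟨z, hzW⟩, ?_⟩
    apply hV.fromSpec.isOpenEmbedding.injective
    have h := IsAffineOpen.comap_primeIdealOf_appLE V hV W hWa hW.le hzW
    show hV.fromSpec (PrimeSpectrum.comap (ξ.appLE V W hW.le).hom (hWa.primeIdealOf ⟨z, hzW⟩)) = _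
    rw [h, hV.fromSpec_primeIdealOf]
    exact hz
  exact FaithfulSMul.algebraMap_injective Γ(T, V) Γ(Z, W)

end Groth.Agent.PinchBC
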